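import Mathlib
import Cfsg.Agent.H952.F4.Defs
import Cfsg.Agent.H952.F4.Defs2

/-!
# S5926, case `n = 5`: elementary facts about `A₅`, eigenspaces and numbers
-/

set_option autoImplicit false

namespace Cfsg.Agent.H952.F4.Cases.Five

open Cfsg Cfsg.Lie Module

/-! ### `A₅` -/

set_option maxRecDepth 100000 in
theorem conj2 : ∀ g : ↥(alternatingGroup (Fin 5)), g * g = 1 → g ≠ 1 → ∃ h, h * v0 * h⁻¹ = g := by
  decide +kernel

set_option maxRecDepth 100000 in
theorem conj3 : ∀ g : ↥(alternatingGroup (Fin 5)), g * g * g = 1 → g ≠ 1 → ∃ h, h * c3 * h⁻¹ = g := by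
  decide +kernel

set_option maxRecDepth 100000 in
theorem conj5 : ∀ g : ↥(alternatingGroup (Fin 5)), g * g * g * g * g = 1 → g ≠ 1 →
    ∃ h, h * z5 * h⁻¹ = g ∨ h * (z5 * z5) * h⁻¹ = g := by
  decide +kernel

theorem inv5 : v0 * z5 * v0⁻¹ = z5⁻¹ := by decide +kernel
theorem inv3 : ∃ s : ↥(alternatingGroup (Fin 5)), s * s = 1 ∧ s ≠ 1 ∧ s * c3 * s⁻¹ = c3⁻¹ := by decide +kernel
theorem v0_sq : v0 * v0 = 1 := by decide +kernel
theorem v0_ne : v0 ≠ 1 := by decide +kernel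
theorem c3_cube : c3 ^ 3 = 1 := by decide +kernel
theorem c3_ne : c3 ≠ 1 := by decide +kernel
theorem z5_five : z5 ^ 5 = 1 := by decide +kernel
theorem z5_ne : z5 ≠ 1 := by decide +kernel

/-! ### eigenspaces -/

section Ev

variable {K V G : Type*} [Field K] [AddCommGroup V] [Module K V] [FiniteDimensional K V] [Group G]

theorem ev_conj_le (ρ : Representation K G V) (g h : G) : ev (ρ h) 1 ≤ ev (ρ (g * h * g⁻¹)) 1 := by
  unfold ev
  have hinj : Function.Injective (ρ g) := by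
    intro a b hab
    have := congrArg (ρ g⁻¹) hab
    rwa [← Module.End.mul_apply, ← Module.End.mul_apply, ← map_mul, inv_mul_cancel, map_one] at this
  rw [(Submodule.equivMapOfInjective (ρ g) hinj (Module.End.eigenspace (ρ h) 1)).finrank_eq]
  apply Submodule.finrank_mono
  rintro _ ⟨v, hv, rfl⟩
  rw [SetLike.mem_coe, Module.End.mem_eigenspace_iff] at hv
  rw [Module.End.mem_eigenspace_iff, one_smul, ← Module.End.mul_apply, ← map_mul, inv_mul_cancel_right, map_mul,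
    Module.End.mul_apply, hv, one_smul]

theorem ev_conj (ρ : Representation K G V) (g h : G) : ev (ρ (g * h * g⁻¹)) 1 = ev (ρ h) 1 := by
  apply le_antisymm _ (ev_conj_le ρ g h)
  have := ev_conj_le ρ g⁻¹ (g * h * g⁻¹)
  rwa [show g⁻¹ * (g * h * g⁻¹) * g⁻¹⁻¹ = h by group] at this

theorem ev_pow_le (ρ : Representation K G V) (g : G) (k : ℕ) : ev (ρ g) 1 ≤ ev (ρ (g ^ k)) 1 := by
  unfold ev
  apply Submodule.finrank_mono
  intro v hv
  rw [Module.End.mem_eigenspace_iff, one_smul] at hv ⊢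
  induction k with
  | zero => simp
  | succ k ih => rw [pow_succ, map_mul, Module.End.mul_apply, hv, ih]

theorem ev_five_sq (ρ : Representation K G V) {z : G} (hz : z ^ 5 = 1) : ev (ρ (z * z)) 1 = ev (ρ z) 1 := by
  apply le_antisymm
  · have := ev_pow_le ρ (z * z) 3
    rwa [show (z * z) ^ 3 = z by
      rw [← pow_two, ← pow_mul, show 2 * 3 = 5 + 1 by norm_num, pow_succ, hz, one_mul]] at this
  · have := ev_pow_le ρ z 2
    rwa [pow_two] at this

theorem ev_two {ρ : Representation K ↥(alternatingGroup (Fin 5)) V} {g : ↥(alternatingGroup (Fin 5))}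
    (h1 : g * g = 1) (h2 : g ≠ 1) : ev (ρ g) 1 = ev (ρ v0) 1 := by
  obtain ⟨h, rfl⟩ := conj2 g h1 h2
  exact ev_conj ρ h v0

theorem ev_three {ρ : Representation K ↥(alternatingGroup (Fin 5)) V} {g : ↥(alternatingGroup (Fin 5))}
    (h1 : g ^ 3 = 1) (h2 : g ≠ 1) : ev (ρ g) 1 = ev (ρ c3) 1 := by
  obtain ⟨h, rfl⟩ := conj3 g (by rw [← h1]; simp only [pow_succ, pow_zero, one_mul]) h2
  exact ev_conj ρ h c3

theorem ev_five {ρ : Representation K ↥(alternatingGroup (Fin 5)) V} {g : ↥(alternatingGroup (Fin 5))}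
    (h1 : g ^ 5 = 1) (h2 : g ≠ 1) : ev (ρ g) 1 = ev (ρ z5) 1 := by
  obtain ⟨h, rfl | rfl⟩ := conj5 g (by rw [← h1]; simp only [pow_succ, pow_zero, one_mul]) h2
  · exact ev_conj ρ h z5
  · rw [ev_conj ρ h (z5 * z5), ev_five_sq ρ z5_five]

end Ev

/-! ### generation -/

theorem orders {x : ↥(alternatingGroup (Fin 5))} {m : ℕ} {s : Multiset ℕ}
    (h : (x : Equiv.Perm (Fin 5)).cycleType = s) (hs : s.lcm = m) : orderOf x = m := by
  rw [← Subgroup.orderOf_coe, ← Equiv.Perm.lcm_cycleType, h, hs]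

/-- generating pair of type `(2,3,5)` -/
theorem gen235 (h : GenT 5 {2, 2} {3} {5}) : ∃ x y : ↥(alternatingGroup (Fin 5)), Subgroup.closure {x, y} = ⊤ ∧
    orderOf x = 2 ∧ orderOf y = 3 ∧ orderOf (x * y) = 5 := by
  obtain ⟨x, y, h1, h2, h3, h4⟩ := h
  exact ⟨x, y, h1, orders h2 (by decide), orders h3 (by decide), orders h4 (by decide)⟩

/-- generating pair of type `(2,5,5)` -/
theorem gen255 (h : GenT 5 {2, 2} {3} {5}) : ∃ x y : ↥(alternatingGroup (Fin 5)), Subgroup.closure {x, y} = ⊤ ∧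
    orderOf x = 2 ∧ orderOf y = 5 ∧ orderOf (x * y) = 5 := by
  obtain ⟨x, y, h1, h2, h3, h4⟩ := gen235 h
  have hx : x * x = 1 := by
    have := pow_orderOf_eq_one x
    rwa [h2, pow_two] at this
  have hy : y * y * y = 1 := by
    have := pow_orderOf_eq_one y
    rw [h3] at this
    simpa only [pow_succ, pow_zero, one_mul] using this
  have hz : (x * y) ^ 5 = 1 := by
    have := pow_orderOf_eq_one (x * y)
    rwa [h4] at this
  have o2 : orderOf ((x * y) ^ 2) = 5 := by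
    rw [orderOf_pow' _ (by norm_num), h4]
    norm_num
  have e1 : (x * y) ^ 2 = x * y * (x * y) := pow_two _
  refine ⟨x, (x * y) ^ 2, ?_, h2, o2, ?_⟩
  · rw [eq_top_iff, ← h1, Subgroup.closure_le]
    have hx' : x ∈ Subgroup.closure {x, (x * y) ^ 2} := Subgroup.subset_closure (by simp)
    have hz' : (x * y) ^ 2 ∈ Subgroup.closure {x, (x * y) ^ 2} := Subgroup.subset_closure (by simp)
    rintro g (rfl | hg)
    · exact hx'
    · rw [Set.mem_singleton_iff] at hg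
      subst hg
      have h5 : x * g ∈ Subgroup.closure {x, (x * g) ^ 2} := by
        have := Subgroup.pow_mem _ hz' 3
        have e0 : ((x * g) ^ 2) ^ 3 = x * g := by
          rw [← pow_mul, show 2 * 3 = 5 + 1 by norm_num, pow_succ (x * g) 5, hz, one_mul]
        rwa [e0] at this
      have h6 := Subgroup.mul_mem _ hx' h5
      rwa [← mul_assoc, hx, one_mul] at h6
  · have e2 : x * (x * y) ^ 2 = y⁻¹ * (x * y)⁻¹ * y⁻¹⁻¹ := by
      rw [e1]
      have hy' : y⁻¹ = y * y := by rw [inv_eq_iff_mul_eq_one, ← mul_assoc, hy]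
      have hx' : x⁻¹ = x := by rw [inv_eq_iff_mul_eq_one, hx]
      have h7 : y * y * (y * y) = y := by rw [← mul_assoc, hy, one_mul]
      calc x * (x * y * (x * y)) = x * x * y * x * y := by group
        _ = y * x * y := by rw [hx, one_mul]
        _ = y * y * (y * y) * x * y := by rw [h7]
        _ = y⁻¹ * (y⁻¹ * x⁻¹) * y := by rw [hy', hx']; group
        _ = y⁻¹ * (x * y)⁻¹ * y⁻¹⁻¹ := by rw [mul_inv_rev, inv_inv]
    have e3 : ∀ a b : ↥(alternatingGroup (Fin 5)), orderOf (a * b * a⁻¹) = orderOf b := by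
      intro a b
      have := MulEquiv.orderOf_eq (MulAut.conj a) b
      rwa [MulAut.conj_apply] at this
    rw [e2, e3, orderOf_inv, h4]

theorem powo {G : Type*} [Group G] {x : G} {m : ℕ} (h : orderOf x = m) : x ^ m = 1 := by
  subst h
  exact pow_orderOf_eq_one x

theorem ne_one_of_order {G : Type*} [Group G] {x : G} {m : ℕ} (h : orderOf x = m) (hm : m ≠ 1) : x ≠ 1 := by
  rintro rfl
  rw [orderOf_one] at h
  exact hm h.symm

/-! ### numbers -/

/-- the order of `F₄(q)` -/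
def NF (q : ℕ) : ℕ := q ^ 24 * (q ^ 2 - 1) * (q ^ 6 - 1) * (q ^ 8 - 1) * (q ^ 12 - 1)

theorem NF_ge {q : ℕ} (hq : 2 ≤ q) : q ^ 52 ≤ 2 * NF q := by
  have h2 : 2 ^ 2 ≤ q ^ 2 := Nat.pow_le_pow_left hq 2
  have h6 : 2 ^ 6 ≤ q ^ 6 := Nat.pow_le_pow_left hq 6
  have h8 : 2 ^ 8 ≤ q ^ 8 := Nat.pow_le_pow_left hq 8
  have h12 : 2 ^ 12 ≤ q ^ 12 := Nat.pow_le_pow_left hq 12
  have a2 : 3 * q ^ 2 ≤ 4 * (q ^ 2 - 1) := by omega
  have a6 : 63 * q ^ 6 ≤ 64 * (q ^ 6 - 1) := by omega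
  have a8 : 255 * q ^ 8 ≤ 256 * (q ^ 8 - 1) := by omega
  have a12 : 4095 * q ^ 12 ≤ 4096 * (q ^ 12 - 1) := by omega
  have h := Nat.mul_le_mul (Nat.mul_le_mul (Nat.mul_le_mul a2 a6) a8) a12
  have h' := Nat.mul_le_mul_left (q ^ 24) h
  have e1 : q ^ 24 * (3 * q ^ 2 * (63 * q ^ 6) * (255 * q ^ 8) * (4095 * q ^ 12)) = 197358525 * q ^ 52 := by ring
  have e2 : q ^ 24 * (4 * (q ^ 2 - 1) * (64 * (q ^ 6 - 1)) * (256 * (q ^ 8 - 1)) * (4096 * (q ^ 12 - 1))) =
      268435456 * NF q := by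
    unfold NF
    ring
  rw [e1, e2] at h'
  omega

/-- the final inequality -/
theorem num_false {q k l h c : ℕ} (hq : 2 ≤ q) (hk : c ≤ k ∨ c ≤ l) (hh : h ≤ 120) (hc : 241 < q ^ c)
    (h1 : ((q ^ k - 1) + (q ^ l - 1)) * NF q ≤ h * (q ^ 52 - 1)) : False := by
  have h2 : q ^ c - 1 ≤ (q ^ k - 1) + (q ^ l - 1) := by
    rcases hk with hk | hk
    · have := Nat.pow_le_pow_right (n := q) (by omega) hk
      omega
    · have := Nat.pow_le_pow_right (n := q) (by omega) hk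
      omega
  have h3 : 241 * NF q ≤ ((q ^ k - 1) + (q ^ l - 1)) * NF q := Nat.mul_le_mul_right _ (by omega)
  have h4 : h * (q ^ 52 - 1) ≤ 120 * (q ^ 52 - 1) := Nat.mul_le_mul_right _ hh
  have h5 := NF_ge hq
  have h6 : 0 < q ^ 52 := by positivity
  omega

end Cfsg.Agent.H952.F4.Cases.Five
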